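import Groth.Agent.Lib.SubobjJH8.Basic

/-!
# Isomorphisms of subquotients
-/

set_option autoImplicit false

universe v u

open CategoryTheory CategoryTheory.Limits Groth.Agent.AR Groth.Agent.SubobjJH8

namespace Groth.Agent.FilSpec8

variable {A : Type u} [Category.{v} A] [Abelian A] {X Y : A}

theorem factors_imageSubobject_iff {W : A} (f : X ⟶ Y) (y : W ⟶ Y) :
    (imageSubobject f).Factors y ↔ ∃ (W' : A) (π : W' ⟶ W) (_ : Epi π) (x : W' ⟶ X), π ≫ y = x ≫ f := by
  rw [← image_le_subobject_iff, image_le_iff]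

/-- A morphism identifies subquotients when the images generate and the preimage is right. -/
theorem quot_iso (f : X ⟶ Y) {S T : Subobject X} {S' T' : Subobject Y} (h : S ≤ T) (h' : S' ≤ T')
    (hT : T' = img f T ⊔ S') (hS : S = T ⊓ preim f S') : Nonempty (quot h ≅ quot h') := by
  have hg : T'.Factors (T.arrow ≫ f) := by
    rw [hT]; exact Subobject.factors_of_le _ le_sup_left (img_factors f (factors_arrow_of_le le_rfl))
  let g : (T : A) ⟶ (T' : A) := T'.factorThru _ hg
  have hga : g ≫ T'.arrow = T.arrow ≫ f := Subobject.factorThru_arrow _ _ _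
  have hk : ∀ {W : A} (x : W ⟶ (T : A)), S.Factors (x ≫ T.arrow) ↔ S'.Factors (x ≫ g ≫ T'.arrow) := by
    intro W x
    rw [hga, hS, Subobject.inf_factors, preim_factors, Category.assoc]
    exact and_iff_right (factors_comp_arrow T x)
  let φ : quot h ⟶ quot h' := cokernel.desc _ (g ≫ cokernel.π _) (by
    rw [← Category.assoc]
    refine comp_π_of_factors h' _ ?_
    rw [Category.assoc]
    exact (hk (Subobject.ofLE S T h)).1 (by rw [Subobject.ofLE_arrow]; exact factors_arrow_of_le le_rfl))
  have hφ : cokernel.π (Subobject.ofLE S T h) ≫ φ = g ≫ cokernel.π _ := cokernel.π_desc _ _ _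
  have : Mono φ := by
    refine Preadditive.mono_of_cancel_zero _ fun {W} k hk' => ?_
    obtain ⟨W', π, hπ, x, hx⟩ := surjective_up_to_refinements_of_epi (cokernel.π _) k
    rw [← cancel_epi π, comp_zero, hx]
    refine comp_π_of_factors _ _ ((hk x).2 ?_)
    rw [← Category.assoc]
    refine factors_of_comp_π h' _ ?_
    rw [Category.assoc, ← hφ, ← reassoc_of% hx, hk', comp_zero]
  have : Epi φ := by
    refine Preadditive.epi_of_cancel_zero _ fun {W} k hk' => ?_
    rw [← cancel_epi (cokernel.π (Subobject.ofLE S' T' h')), comp_zero]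
    have h0 : (img f T ⊔ S').Factors T'.arrow := hT ▸ factors_arrow_of_le le_rfl
    obtain ⟨W₁, π, hπ, y, z, hy, hz, e⟩ := (factors_sup_iff T'.arrow).1 h0
    obtain ⟨W₂, π', hπ', x, hx, e'⟩ := (factors_img_iff f T y).1 hy
    rw [← cancel_epi π, ← cancel_epi π', comp_zero, comp_zero]
    have hd : π' ≫ π = T.factorThru x hx ≫ g + (π' ≫ S'.factorThru z hz) ≫ Subobject.ofLE S' T' h' := by
      rw [← cancel_mono T'.arrow]
      simp [hga, e, e', Preadditive.comp_add]
    rw [← Category.assoc π', hd]
    simp only [Preadditive.add_comp, Category.assoc, cokernel.condition_assoc, zero_comp, comp_zero, add_zero]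
    rw [← reassoc_of% hφ, hk', comp_zero, comp_zero]
  have := isIso_of_mono_of_epi φ
  exact ⟨asIso φ⟩

/-- The short exact sequence of a chain of three subobjects. -/
theorem exists_chain {S M T : Subobject X} (h₁ : S ≤ M) (h₂ : M ≤ T) :
    ∃ (f : quot h₁ ⟶ quot (h₁.trans h₂)) (g : quot (h₁.trans h₂) ⟶ quot h₂) (w : f ≫ g = 0),
      (ShortComplex.mk f g w).ShortExact := by
  let f : quot h₁ ⟶ quot (h₁.trans h₂) := cokernel.map _ _ (𝟙 _) (Subobject.ofLE M T h₂) (by simp)
  let g : quot (h₁.trans h₂) ⟶ quot h₂ := cokernel.map _ _ (Subobject.ofLE S M h₁) (𝟙 _) (by simp)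
  have w : f ≫ g = 0 := by
    rw [← cancel_epi (cokernel.π _)]; simp [f, g]
  refine ⟨f, g, w, { exact := ?_, mono_f := ?_, epi_g := ?_ }⟩
  · rw [ShortComplex.exact_iff_exact_up_to_refinements]
    intro W k hk
    obtain ⟨W', π, hπ, x, hx⟩ := surjective_up_to_refinements_of_epi (cokernel.π _) k
    dsimp at hk ⊢
    have h0 : x ≫ cokernel.π (Subobject.ofLE M T h₂) = 0 := by
      have : x ≫ cokernel.π _ ≫ g = 0 := by rw [← reassoc_of% hx, hk, comp_zero]
      simpa [g] using this
    have hM := factors_of_comp_π h₂ x h0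
    refine ⟨W', π, hπ, M.factorThru _ hM ≫ cokernel.π _, ?_⟩
    have e : x = M.factorThru _ hM ≫ Subobject.ofLE M T h₂ := by
      rw [← cancel_mono T.arrow, Category.assoc, Subobject.ofLE_arrow, Subobject.factorThru_arrow]
    rw [hx]
    simp only [f, Category.assoc, cokernel.π_desc]
    rw [← Category.assoc, ← e]
  · refine Preadditive.mono_of_cancel_zero _ fun {W} k hk => ?_
    obtain ⟨W', π, hπ, x, hx⟩ := surjective_up_to_refinements_of_epi (cokernel.π _) k
    rw [← cancel_epi π, comp_zero, hx]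
    have h0 : (x ≫ Subobject.ofLE M T h₂) ≫ cokernel.π (Subobject.ofLE S T (h₁.trans h₂)) = 0 := by
      have : x ≫ cokernel.π _ ≫ f = 0 := by rw [← reassoc_of% hx, hk, comp_zero]
      simpa [f] using this
    have := factors_of_comp_π _ _ h0
    rw [Category.assoc, Subobject.ofLE_arrow] at this
    exact comp_π_of_factors _ _ this
  · haveI : Epi (cokernel.π (Subobject.ofLE S T (h₁.trans h₂)) ≫ g) := by
      simp [g]; infer_instance
    exact epi_of_epi (cokernel.π (Subobject.ofLE S T (h₁.trans h₂))) g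

end Groth.Agent.FilSpec8
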