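import Groth.Prelude.Def_SpSeq
import Groth.Agent.Lib.FilSpec8.Quot
import Mathlib.Algebra.Homology.Refinements
import Mathlib.Algebra.Homology.HomologicalComplexLimits
import Mathlib.Data.Int.Interval

/-!
# Convergence of the spectral sequence of a filtered complex
-/

set_option autoImplicit false

universe v u

open CategoryTheory CategoryTheory.Limits Groth.Agent.AR Groth.Agent.SubobjJH8 SpSeq

namespace Groth.Agent.FilSpec8

variable {A : Type u} [Category.{v} A] [Abelian A] (K : FilCx A)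

theorem filX_comp_d {W : A} {p i j : ℤ} {x : W ⟶ K.obj.X i} (h : (K.filX p i).Factors x) :
    (K.filX p j).Factors (x ≫ K.obj.d i j) := by
  obtain ⟨(a : W ⟶ (K.fil p : CochainComplex A ℤ).X i), (ha : a ≫ (K.fil p).arrow.f i = x)⟩ :=
    (Subobject.mk_factors_iff _ _).1 h
  refine (Subobject.mk_factors_iff _ _).2 ⟨a ≫ (K.fil p : CochainComplex A ℤ).d i j, ?_⟩
  show (a ≫ _) ≫ (K.fil p).arrow.f j = _
  rw [Category.assoc, ← (K.fil p).arrow.comm, ← Category.assoc, ha]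

theorem filX_le {p q : ℤ} (h : p ≤ q) (n : ℤ) {W : A} {x : W ⟶ K.obj.X n} (hx : (K.filX q n).Factors x) :
    (K.filX p n).Factors x :=
  Subobject.factors_of_le _ (K.filX_anti n h) hx

theorem mem_ZSub {r : ℕ} {p n : ℤ} {W : A} {x : W ⟶ K.obj.X n} (hx : (K.filX p n).Factors x)
    (hd : (K.filX (p + r) (n + 1)).Factors (x ≫ K.obj.d n (n + 1))) : (K.ZSub r p n).Factors x :=
  Subobject.factors_of_le x le_sup_left ((Subobject.inf_factors _).2 ⟨hx, (preim_factors _ _ x).2 hd⟩)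

theorem mem_BSub {r : ℕ} {p n : ℤ} {W W' : A} {x : W ⟶ K.obj.X n} (hx : (K.filX p n).Factors x)
    (π : W' ⟶ W) [Epi π] {w : W' ⟶ K.obj.X (n - 1)} (hw : (K.filX (p - r + 1) (n - 1)).Factors w)
    (e : π ≫ x = w ≫ K.obj.d (n - 1) n) : (K.BSub r p n).Factors x :=
  Subobject.factors_of_le x le_sup_left ((Subobject.inf_factors _).2
    ⟨hx, (factors_img_iff (K.obj.d (n - 1) n) _ x).2 ⟨W', π, inferInstance, w, hw, e⟩⟩)

theorem filX_succ_le_BSub (r : ℕ) (p n : ℤ) : K.filX (p + 1) n ≤ K.BSub r p n := le_sup_right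

theorem ZSub_le_filX (r : ℕ) (p n : ℤ) : K.ZSub r p n ≤ K.filX p n :=
  sup_le inf_le_left (K.filX_anti n (Int.le_add_one le_rfl))

theorem ZTop_le_ZSub (r : ℕ) (p n : ℤ) : K.ZTop p n ≤ K.ZSub r p n :=
  sup_le_sup_right (inf_le_inf_left _ (FilCx.kernelSubobject_le_pullback _ _)) _

theorem BSub_le_BBot (r : ℕ) (p n : ℤ) : K.BSub r p n ≤ K.BBot p n :=
  sup_le_sup_right (inf_le_inf_left _ (imageSubobject_comp_le _ _)) _

theorem BBot_le_ZTop (p n : ℤ) : K.BBot p n ≤ K.ZTop p n :=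
  sup_le_sup_right (inf_le_inf_left _ (le_kernelSubobject _ _ (imageSubobject_arrow_comp_eq_zero (by simp)))) _

theorem isZero_E_iff (r : ℕ) (p n : ℤ) : IsZero (K.E r p n) ↔ K.BSub r p n = K.ZSub r p n :=
  isZero_quot_iff _

theorem mono_arrow_f (p n : ℤ) : Mono ((K.fil p).arrow.f n) :=
  (HomologicalComplex.eval A (ComplexShape.up ℤ) n).map_mono (K.fil p).arrow

/-- `H^n` of a step vanishes: every cocycle is a coboundary. -/
theorem exists_of_isZero {p n : ℤ} (h : IsZero ((K.fil p : CochainComplex A ℤ).homology n)) {W : A}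
    (x : W ⟶ K.obj.X n) (hx : (K.filX p n).Factors x) (hd : x ≫ K.obj.d n (n + 1) = 0) :
    ∃ (W' : A) (π : W' ⟶ W) (_ : Epi π) (w : W' ⟶ K.obj.X (n - 1)),
      (K.filX p (n - 1)).Factors w ∧ π ≫ x = w ≫ K.obj.d (n - 1) n := by
  obtain ⟨(a : W ⟶ (K.fil p : CochainComplex A ℤ).X n), (ha : a ≫ (K.fil p).arrow.f n = x)⟩ :=
    (Subobject.mk_factors_iff _ _).1 hx
  have := mono_arrow_f K p (n + 1)
  have h0 : a ≫ (K.fil p : CochainComplex A ℤ).d n (n + 1) = 0 := by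
    rw [← cancel_mono ((K.fil p).arrow.f (n + 1)), Category.assoc, ← (K.fil p).arrow.comm, ← Category.assoc, ha,
      hd, zero_comp]
  obtain ⟨W', π, hπ, b, hb⟩ :=
    (HomologicalComplex.liftCycles_comp_homologyπ_eq_zero_iff_up_to_refinements _ (n - 1) n (n + 1)
      (by simp) (by simp) a h0).1 (h.eq_of_tgt _ _)
  refine ⟨W', π, hπ, b ≫ (K.fil p).arrow.f (n - 1), (Subobject.mk_factors_iff _ _).2 ⟨b, rfl⟩, ?_⟩
  rw [← ha, reassoc_of% hb, Category.assoc, (K.fil p).arrow.comm]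

/-- `H^n` of a step injects: a cocycle of the step bounding in the complex bounds in the step. -/
theorem exists_of_mono {p n : ℤ} (h : Mono (HomologicalComplex.homologyMap (K.fil p).arrow n)) {W : A}
    (x : W ⟶ K.obj.X n) (hx : (K.filX p n).Factors x) (u : W ⟶ K.obj.X (n - 1))
    (hu : x = u ≫ K.obj.d (n - 1) n) :
    ∃ (W' : A) (π : W' ⟶ W) (_ : Epi π) (w : W' ⟶ K.obj.X (n - 1)),
      (K.filX p (n - 1)).Factors w ∧ π ≫ x = w ≫ K.obj.d (n - 1) n := by
  obtain ⟨(a : W ⟶ (K.fil p : CochainComplex A ℤ).X n), (ha : a ≫ (K.fil p).arrow.f n = x)⟩ :=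
    (Subobject.mk_factors_iff _ _).1 hx
  have := mono_arrow_f K p (n + 1)
  have h0 : a ≫ (K.fil p : CochainComplex A ℤ).d n (n + 1) = 0 := by
    rw [← cancel_mono ((K.fil p).arrow.f (n + 1)), Category.assoc, ← (K.fil p).arrow.comm, ← Category.assoc, ha,
      hu, Category.assoc, HomologicalComplex.d_comp_d, comp_zero, zero_comp]
  obtain ⟨W', π, hπ, b, hb⟩ :=
    (HomologicalComplex.mono_homologyMap_iff_up_to_refinements (K.fil p).arrow (n - 1) n (n + 1)
      (by simp) (by simp)).1 h a h0 u (ha.trans hu)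
  refine ⟨W', π, hπ, b ≫ (K.fil p).arrow.f (n - 1), (Subobject.mk_factors_iff _ _).2 ⟨b, rfl⟩, ?_⟩
  rw [← ha, reassoc_of% hb, Category.assoc, (K.fil p).arrow.comm]

/-- `H^n` of a step surjects: every cocycle is cohomologous to one of the step. -/
theorem exists_of_epi {p n : ℤ} (h : Epi (HomologicalComplex.homologyMap (K.fil p).arrow n)) {W : A}
    (x : W ⟶ K.obj.X n) (hd : x ≫ K.obj.d n (n + 1) = 0) :
    ∃ (W' : A) (π : W' ⟶ W) (_ : Epi π) (z : W' ⟶ K.obj.X n) (u : W' ⟶ K.obj.X (n - 1)),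
      (K.filX p n).Factors z ∧ z ≫ K.obj.d n (n + 1) = 0 ∧ π ≫ x = z + u ≫ K.obj.d (n - 1) n := by
  obtain ⟨W', π, hπ, a, ha, u, hu⟩ :=
    (HomologicalComplex.epi_homologyMap_iff_up_to_refinements (K.fil p).arrow (n - 1) n (n + 1)
      (by simp) (by simp)).1 h x hd
  exact ⟨W', π, hπ, a ≫ (K.fil p).arrow.f n, u, (Subobject.mk_factors_iff _ _).2 ⟨a, rfl⟩,
    by rw [Category.assoc, (K.fil p).arrow.comm, reassoc_of% ha, zero_comp], hu⟩

variable (h0 : ∀ n : ℤ, ∃ p₀ : ℤ, ∀ p : ℤ, p₀ ≤ p → IsZero ((K.fil p : CochainComplex A ℤ).homology n))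
  (h1 : ∀ n : ℤ, ∃ p₁ : ℤ, ∀ p : ℤ, p ≤ p₁ → IsIso (HomologicalComplex.homologyMap (K.fil p).arrow n))

include h0 in
theorem ZSub_eventually (p n : ℤ) : ∃ r₀ : ℕ, ∀ r, r₀ ≤ r → K.ZSub r p n = K.ZTop p n := by
  obtain ⟨p₀, hp₀⟩ := h0 (n + 1)
  refine ⟨(p₀ - p).toNat + 1, fun r hr => le_antisymm ?_ (ZTop_le_ZSub K r p n)⟩
  refine sup_le (le_of_forall_factors fun W x hx => ?_) le_sup_right
  obtain ⟨hx1, hx2⟩ := (Subobject.inf_factors _).1 hx
  have hx2' := (preim_factors _ _ x).1 hx2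
  obtain ⟨W', π, hπ, w, hw, e⟩ := exists_of_isZero K (hp₀ (p + r) (by omega)) _ hx2'
    (by rw [Category.assoc, HomologicalComplex.d_comp_d, comp_zero])
  have hn : n + 1 - 1 = n := by omega
  obtain ⟨w', hw', e'⟩ : ∃ w' : W' ⟶ K.obj.X n, (K.filX (p + r) n).Factors w' ∧
      π ≫ x ≫ K.obj.d n (n + 1) = w' ≫ K.obj.d n (n + 1) := by
    revert w
    rw [hn]
    exact fun w hw e => ⟨w, hw, e⟩
  have hk : (kernelSubobject (K.obj.d n (n + 1))).Factors (π ≫ x - w') := by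
    rw [kernelSubobject_factors_iff, Preadditive.sub_comp, Category.assoc, e', sub_self]
  refine factors_of_epi_comp π x ?_
  rw [show π ≫ x = (π ≫ x - w') + w' by abel]
  refine Subobject.factors_add _ _ ?_ (Subobject.factors_of_le _ le_sup_right (filX_le K (by omega) n hw'))
  exact Subobject.factors_of_le _ le_sup_left ((Subobject.inf_factors _).2
    ⟨factors_sub (Subobject.factors_of_factors_right _ hx1) (filX_le K (by omega) n hw'), hk⟩)

include h1 in
theorem BSub_eventually (p n : ℤ) : ∃ r₀ : ℕ, ∀ r, r₀ ≤ r → K.BSub r p n = K.BBot p n := by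
  obtain ⟨p₁, hp₁⟩ := h1 n
  refine ⟨(p - p₁).toNat + 1, fun r hr => le_antisymm (BSub_le_BBot K r p n) ?_⟩
  refine sup_le (le_of_forall_factors fun W x hx => ?_) le_sup_right
  obtain ⟨hx1, hx2⟩ := (Subobject.inf_factors _).1 hx
  obtain ⟨W', π, hπ, u, e⟩ := (factors_imageSubobject_iff _ _).1 hx2
  haveI := hp₁ (p - r + 1) (by omega)
  obtain ⟨W'', π', hπ', w, hw, e'⟩ := exists_of_mono K (p := p - r + 1) inferInstance (π ≫ x)
    (Subobject.factors_of_factors_right _ (filX_le K (by omega) n hx1)) u e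
  exact mem_BSub K hx1 (π' ≫ π) hw (by rw [Category.assoc, e'])

include h0 h1 in
theorem isBounded_one : K.IsBounded 1 := fun n => by
  obtain ⟨a, ha⟩ := h0 n
  obtain ⟨a', ha'⟩ := h0 (n + 1)
  obtain ⟨b, hb⟩ := h1 n
  obtain ⟨b', hb'⟩ := h1 (n + 1)
  refine (Set.finite_Icc (min b b') (max a a')).subset fun p hp => ?_
  by_contra hp'
  refine hp ((isZero_E_iff K 1 p n).2 (le_antisymm (K.BSub_le_ZSub 1 p n) (sup_le ?_ le_sup_right)))
  refine le_of_forall_factors fun W x hx => ?_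
  obtain ⟨hx1, hx2⟩ := (Subobject.inf_factors _).1 hx
  have hx2' : (K.filX (p + 1) (n + 1)).Factors (x ≫ K.obj.d n (n + 1)) := by
    simpa using (preim_factors _ _ x).1 hx2
  obtain ⟨W', π, hπ, y, hy, e⟩ : ∃ (W' : A) (π : W' ⟶ W) (_ : Epi π) (y : W' ⟶ K.obj.X n),
      (K.filX (p + 1) n).Factors y ∧ π ≫ x ≫ K.obj.d n (n + 1) = y ≫ K.obj.d n (n + 1) := by
    have hn : n + 1 - 1 = n := by omega
    rcases not_and_or.1 (show ¬ (min b b' ≤ p ∧ p ≤ max a a') from hp') with h | h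
    · haveI := hb' (p + 1) (by omega)
      obtain ⟨u, hu⟩ : ∃ u : W ⟶ K.obj.X (n + 1 - 1),
          x ≫ K.obj.d n (n + 1) = u ≫ K.obj.d (n + 1 - 1) (n + 1) := by rw [hn]; exact ⟨x, rfl⟩
      obtain ⟨W', π, hπ, w, hw, e⟩ := exists_of_mono K (p := p + 1) inferInstance _ hx2' u hu
      revert w
      rw [hn]
      exact fun w hw e => ⟨W', π, hπ, w, hw, e⟩
    · obtain ⟨W', π, hπ, w, hw, e⟩ := exists_of_isZero K (ha' (p + 1) (by omega)) _ hx2'
        (by rw [Category.assoc, HomologicalComplex.d_comp_d, comp_zero])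
      revert w
      rw [hn]
      exact fun w hw e => ⟨W', π, hπ, w, hw, e⟩
  have hc : (K.filX p n).Factors (π ≫ x - y) :=
    factors_sub (Subobject.factors_of_factors_right _ hx1) (filX_le K (by omega) n hy)
  have hcd : (π ≫ x - y) ≫ K.obj.d n (n + 1) = 0 := by
    rw [Preadditive.sub_comp, Category.assoc, e, sub_self]
  refine factors_of_epi_comp π x ?_
  rw [show π ≫ x = (π ≫ x - y) + y by abel]
  refine Subobject.factors_add _ _ ?_ (Subobject.factors_of_le _ (filX_succ_le_BSub K 1 p n) hy)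
  rcases not_and_or.1 (show ¬ (min b b' ≤ p ∧ p ≤ max a a') from hp') with h | h
  · haveI := hb (p + 1) (by omega)
    obtain ⟨W₁, π₁, hπ₁, z, u, hz, hzd, e₁⟩ := exists_of_epi K (p := p + 1) inferInstance _ hcd
    haveI := hb p (by omega)
    obtain ⟨W₂, π₂, hπ₂, w, hw, e₂⟩ := exists_of_mono K (p := p) inferInstance (π₁ ≫ (π ≫ x - y) - z)
      (factors_sub (Subobject.factors_of_factors_right _ hc) (filX_le K (by omega) n hz)) u (by rw [e₁]; abel)
    refine factors_of_epi_comp π₁ _ ?_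
    rw [show π₁ ≫ (π ≫ x - y) = (π₁ ≫ (π ≫ x - y) - z) + z by abel]
    exact Subobject.factors_add _ _
      (mem_BSub K (factors_sub (Subobject.factors_of_factors_right _ hc) (filX_le K (by omega) n hz)) π₂
        (by simpa using hw) e₂)
      (Subobject.factors_of_le _ (filX_succ_le_BSub K 1 p n) hz)
  · obtain ⟨W₂, π₂, hπ₂, w, hw, e₂⟩ := exists_of_isZero K (ha p (by omega)) _ hc hcd
    exact mem_BSub K hc π₂ (by simpa using hw) e₂

include h0 h1 in
theorem isFinite_HFil (n : ℤ) : (K.HFil n).IsFinite := by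
  obtain ⟨p₁, hp₁⟩ := h1 n
  obtain ⟨p₀, hp₀⟩ := h0 n
  refine ⟨⟨p₁, top_le_iff.1 (le_of_forall_factors fun W y _ => ?_)⟩,
    ⟨p₀, le_bot_iff.1 (le_of_forall_factors fun W y hy => ?_)⟩⟩
  · let g := HomologicalComplex.homologyMap (K.fil p₁).arrow n
    haveI : IsIso g := hp₁ p₁ le_rfl
    obtain ⟨z, hz⟩ : ∃ z : W ⟶ _, z ≫ g = y := ⟨CategoryStruct.comp (Y := K.obj.homology n) y (inv g),
      (Category.assoc _ _ _).trans ((congrArg (CategoryStruct.comp y) (IsIso.inv_hom_id g)).trans (Category.comp_id _))⟩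
    exact (factors_imageSubobject_iff g y).2 ⟨W, 𝟙 W, inferInstance, z, by rw [Category.id_comp, hz]⟩
  · obtain ⟨W', π, hπ, a, e⟩ :=
      (factors_imageSubobject_iff (HomologicalComplex.homologyMap (K.fil p₀).arrow n) y).1 hy
    rw [(hp₀ p₀ le_rfl).eq_of_tgt a 0, zero_comp, ← comp_zero (f := π), cancel_epi] at e
    rw [e]
    exact Subobject.factors_zero

theorem isSeparated_of_isFinite {B : Type u} [Category.{v} B] [Abelian B] (F : FilObj B) (h : F.IsFinite) :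
    F.IsSeparated ∧ F.IsExhaustive ∧ F.IsComplete := by
  obtain ⟨⟨a, ha⟩, ⟨b, hb⟩⟩ := h
  refine ⟨⟨fun _ _ => bot_le, fun S hS => hb ▸ hS ⟨b, rfl⟩⟩, ⟨fun _ _ => le_top, fun S hS => ha ▸ hS ⟨a, rfl⟩⟩,
    fun T f hf => ?_⟩
  have hiso : ∀ p, b ≤ p → IsIso (cokernel.π (F.fil p).arrow) := fun p hp => by
    have : F.fil p = ⊥ := le_bot_iff.1 (hb ▸ F.anti hp)
    have h0 : (F.fil p).arrow = 0 := by rw [this, Subobject.bot_arrow]
    haveI := IsSplitMono.mk' (f := cokernel.π (F.fil p).arrow)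
      ⟨cokernel.desc _ (𝟙 _) (by rw [h0, zero_comp]), cokernel.π_desc _ _ _⟩
    exact isIso_of_mono_of_epi _
  haveI := hiso b le_rfl
  have hq : ∀ {p q : ℤ} (h : p ≤ q), cokernel.π (F.fil q).arrow ≫ F.quotMap h = cokernel.π (F.fil p).arrow :=
    fun h => cokernel.π_desc _ _ _
  refine ⟨f b ≫ inv (cokernel.π (F.fil b).arrow), fun p => ?_⟩
  rcases le_total p b with hp | hp
  · rw [← hq hp, Category.assoc, IsIso.inv_hom_id_assoc, hf]
  · haveI := hiso p hp
    haveI : IsIso (F.quotMap hp) := by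
      have := hq hp
      have : IsIso (cokernel.π (F.fil p).arrow ≫ F.quotMap hp) := by rw [this]; infer_instance
      exact IsIso.of_isIso_comp_left (cokernel.π (F.fil p).arrow) _
    rw [← cancel_mono (F.quotMap hp), hf, Category.assoc, Category.assoc, hq, IsIso.inv_hom_id, Category.comp_id]

include h0 h1 in
theorem converges : K.Converges := by
  refine ⟨fun p n => ?_, ⟨fun p n => ⟨?_, ?_⟩, fun n => ?_⟩, fun n => ?_⟩
  · obtain ⟨r₀, hr₀⟩ := ZSub_eventually K h0 p n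
    exact ⟨r₀, fun r hr => by rw [hr₀ r hr, hr₀ r₀ le_rfl]⟩
  · obtain ⟨r₀, hr₀⟩ := ZSub_eventually K h0 p n
    exact ⟨by rintro _ ⟨r, rfl⟩; exact ZTop_le_ZSub K r p n, fun S hS => hr₀ r₀ le_rfl ▸ hS ⟨r₀, rfl⟩⟩
  · obtain ⟨r₀, hr₀⟩ := BSub_eventually K h1 p n
    exact ⟨by rintro _ ⟨r, rfl⟩; exact BSub_le_BBot K r p n, fun S hS => hr₀ r₀ le_rfl ▸ hS ⟨r₀, rfl⟩⟩
  · exact ⟨(isSeparated_of_isFinite _ (isFinite_HFil K h0 h1 n)).1,
      (isSeparated_of_isFinite _ (isFinite_HFil K h0 h1 n)).2.1⟩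
  · exact (isSeparated_of_isFinite _ (isFinite_HFil K h0 h1 n)).2.2

section Finite

variable (hK : ∀ n : ℤ, (K.XFil n).IsFinite)
include hK

theorem hyp_zero (n : ℤ) : ∃ p₀ : ℤ, ∀ p : ℤ, p₀ ≤ p → IsZero ((K.fil p : CochainComplex A ℤ).homology n) := by
  obtain ⟨b, hb⟩ := (hK n).2
  refine ⟨b, fun p hp => ?_⟩
  have hp' : K.filX p n = ⊥ := le_bot_iff.1 (((K.filX_anti n) hp).trans hb.le)
  have hX : IsZero ((K.fil p : CochainComplex A ℤ).X n) := by
    have hm := mono_arrow_f K p n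
    rw [IsZero.iff_id_eq_zero, ← cancel_mono ((K.fil p).arrow.f n), zero_comp, Category.id_comp]
    have h : (K.filX p n).Factors ((K.fil p).arrow.f n) := Subobject.mk_factors_self _
    rw [hp', Subobject.bot_factors_iff_zero] at h
    exact h
  exact ShortComplex.exact_iff_isZero_homology _ |>.1 (ShortComplex.exact_of_isZero_X₂ _ hX)

theorem hyp_iso (n : ℤ) :
    ∃ p₁ : ℤ, ∀ p : ℤ, p ≤ p₁ → IsIso (HomologicalComplex.homologyMap (K.fil p).arrow n) := by
  obtain ⟨a, ha⟩ := (hK (n - 1)).1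
  obtain ⟨a', ha'⟩ := (hK n).1
  obtain ⟨a'', ha''⟩ := (hK (n + 1)).1
  refine ⟨min a (min a' a''), fun p hp => ?_⟩
  have key : ∀ m q, K.filX q m = ⊤ → p ≤ q → IsIso ((K.fil p).arrow.f m) := fun m q h hq => by
    haveI := mono_arrow_f K p m
    exact (Subobject.isIso_iff_mk_eq_top _).2 (top_le_iff.1 (h.ge.trans (K.filX_anti m hq)))
  haveI := key (n - 1) a ha (by omega)
  haveI := key n a' ha' (by omega)
  haveI := key (n + 1) a'' ha'' (by omega)
  let φ := (K.fil p).arrow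
  haveI : Mono (HomologicalComplex.homologyMap φ n) := by
    refine (HomologicalComplex.mono_homologyMap_iff_up_to_refinements φ (n - 1) n (n + 1)
      (by simp) (by simp)).2 fun W x hx u hu => ⟨W, 𝟙 W, inferInstance, u ≫ inv (φ.f (n - 1)), ?_⟩
    rw [← cancel_mono (φ.f n), Category.id_comp, hu, Category.assoc, Category.assoc, ← φ.comm,
      IsIso.inv_hom_id_assoc]
  haveI : Epi (HomologicalComplex.homologyMap φ n) := by
    refine (HomologicalComplex.epi_homologyMap_iff_up_to_refinements φ (n - 1) n (n + 1)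
      (by simp) (by simp)).2 fun W y hy => ⟨W, 𝟙 W, inferInstance, y ≫ inv (φ.f n), ?_, 0, by simp⟩
    rw [← cancel_mono (φ.f (n + 1)), Category.assoc, Category.assoc, ← φ.comm, IsIso.inv_hom_id_assoc, hy,
      zero_comp]
  exact isIso_of_mono_of_epi _

theorem isBounded_zero : K.IsBounded 0 := fun n => by
  obtain ⟨⟨a, ha⟩, ⟨b, hb⟩⟩ := hK n
  refine (Set.finite_Icc (a : ℤ) b).subset fun p hp => ?_
  by_contra hp'
  refine hp ((isZero_E_iff K 0 p n).2 (le_antisymm (K.BSub_le_ZSub 0 p n) ?_))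
  rcases not_and_or.1 (show ¬ (a ≤ p ∧ p ≤ b) from hp') with h | h
  · exact (le_top.trans ha.ge).trans ((K.filX_anti n (by omega)).trans (filX_succ_le_BSub K 0 p n))
  · exact (ZSub_le_filX K 0 p n).trans (((K.filX_anti n (by omega)).trans hb.le).trans bot_le)

end Finite

end Groth.Agent.FilSpec8
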