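import Groth.Agent.Lib.FilSpec8.Basic
import Mathlib.Algebra.Homology.ExactSequence

/-!
# Weak Serre classes and the spectral sequence of a filtered complex
-/

set_option autoImplicit false

universe v u

open CategoryTheory CategoryTheory.Limits Groth.Agent.AR Groth.Agent.SubobjJH8 SpSeq ZeroObject

namespace Groth.Agent.FilSpec8

variable {A : Type u} [Category.{v} A] [Abelian A] (K : FilCx A)

theorem mem_BSub' {r : ℕ} {p i j : ℤ} (hij : i + 1 = j) {W W' : A} {x : W ⟶ K.obj.X j}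
    (hx : (K.filX p j).Factors x) (π : W' ⟶ W) [Epi π] {w : W' ⟶ K.obj.X i}
    (hw : (K.filX (p - r + 1) i).Factors w) (e : π ≫ x = w ≫ K.obj.d i j) : (K.BSub r p j).Factors x := by
  obtain rfl : i = j - 1 := by omega
  exact mem_BSub K hx π hw e

theorem exists_of_mem_BSub {r : ℕ} {p i j : ℤ} (hij : i + 1 = j) {W : A} {x : W ⟶ K.obj.X j}
    (hx : (K.BSub r p j).Factors x) :
    ∃ (W' : A) (π : W' ⟶ W) (_ : Epi π) (w : W' ⟶ K.obj.X i) (z : W' ⟶ K.obj.X j),
      (K.filX (p - r + 1) i).Factors w ∧ (K.filX p j).Factors (w ≫ K.obj.d i j) ∧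
      (K.filX (p + 1) j).Factors z ∧ π ≫ x = w ≫ K.obj.d i j + z := by
  obtain rfl : i = j - 1 := by omega
  obtain ⟨W₁, π₁, hπ₁, y, z, hy, hz, e⟩ := (factors_sup_iff x).1 hx
  obtain ⟨hy1, hy2⟩ := (Subobject.inf_factors _).1 hy
  obtain ⟨W₂, π₂, hπ₂, w, hw, e'⟩ := (factors_img_iff (K.obj.d (j - 1) j) _ y).1 hy2
  exact ⟨W₂, π₂ ≫ π₁, inferInstance, w, π₂ ≫ z, hw, e' ▸ Subobject.factors_of_factors_right _ hy1,
    Subobject.factors_of_factors_right _ hz, by rw [Category.assoc, e, Preadditive.comp_add, e']⟩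

theorem BSub_le_succ (r : ℕ) (p n : ℤ) : K.BSub r p n ≤ K.BSub (r + 1) p n := by
  refine le_of_forall_factors fun W x hx => ?_
  obtain ⟨W', π, hπ, w, z, hw, hwd, hz, e⟩ := exists_of_mem_BSub K (i := n - 1) (by omega) hx
  refine factors_of_epi_comp π x ?_
  rw [e]
  exact Subobject.factors_add _ _ (mem_BSub K hwd (𝟙 W') (filX_le K (by omega) _ hw) (Category.id_comp _))
    (Subobject.factors_of_le _ (filX_succ_le_BSub K _ p n) hz)

theorem ZSub_succ_le (r : ℕ) (p n : ℤ) : K.ZSub (r + 1) p n ≤ K.ZSub r p n :=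
  sup_le_sup_right (inf_le_inf_left _ (le_of_forall_factors fun W x hx =>
    (preim_factors _ _ x).2 (filX_le K (by omega) _ ((preim_factors _ _ x).1 hx)))) _

theorem quot_congr {X : A} {S T S' T' : Subobject X} (h : S ≤ T) (h' : S' ≤ T') (e : S = S') (e' : T = T') :
    Nonempty (quot h ≅ quot h') := by
  subst e e'; exact ⟨Iso.refl _⟩

/-- The differential identifies `Z_r / Z_{r+1}` with `B_{r+1} / B_r`. -/
theorem nonempty_diff_iso (r : ℕ) (p q i j : ℤ) (hq : p + r = q) (hij : i + 1 = j) :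
    Nonempty (quot (ZSub_succ_le K r p i) ≅ quot (BSub_le_succ K r q j)) := by
  subst hij hq
  let T := K.filX p i ⊓ (Subobject.pullback (K.obj.d i (i + 1))).obj (K.filX (p + r) (i + 1))
  have e1 : K.ZSub (r + 1) p i ⊔ T = K.ZSub r p i := by
    refine le_antisymm (sup_le (ZSub_succ_le K r p i) le_sup_left) (sup_le le_sup_right ?_)
    exact le_sup_right.trans le_sup_left
  obtain ⟨I₁⟩ := second_iso (S := K.ZSub (r + 1) p i) (T := T)
  obtain ⟨I₂⟩ := quot_congr (le_sup_left : K.ZSub (r + 1) p i ≤ K.ZSub (r + 1) p i ⊔ T) (ZSub_succ_le K r p i)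
    rfl e1
  have hT : K.BSub (r + 1) (p + r) (i + 1) = img (K.obj.d i (i + 1)) T ⊔ K.BSub r (p + r) (i + 1) := by
    refine le_antisymm (le_of_forall_factors fun W x hx => ?_) (sup_le ?_ (BSub_le_succ K r _ _))
    · obtain ⟨W', π, hπ, w, z, hw, hwd, hz, e⟩ := exists_of_mem_BSub K (i := i) rfl hx
      refine factors_of_epi_comp π x ?_
      rw [e]
      refine Subobject.factors_add _ _ (Subobject.factors_of_le _ le_sup_left (img_factors _ ?_))
        (Subobject.factors_of_le _ (le_sup_right.trans le_sup_right) hz)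
      exact (Subobject.inf_factors _).2 ⟨by convert hw using 2; push_cast; ring, (preim_factors _ _ w).2 hwd⟩
    · refine le_of_forall_factors fun W x hx => ?_
      obtain ⟨W', π, hπ, w, hw, e⟩ := (factors_img_iff _ _ x).1 hx
      obtain ⟨hw1, hw2⟩ := (Subobject.inf_factors _).1 hw
      refine mem_BSub' K rfl ?_ π (by convert hw1 using 2; push_cast; ring) e
      exact factors_of_epi_comp π x (e ▸ (preim_factors _ _ w).1 hw2)
  have hS : K.ZSub (r + 1) p i ⊓ T = T ⊓ preim (K.obj.d i (i + 1)) (K.BSub r (p + r) (i + 1)) := by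
    refine le_antisymm (le_of_forall_factors fun W x hx => ?_) (le_of_forall_factors fun W x hx => ?_)
    · obtain ⟨hx1, hxT⟩ := (Subobject.inf_factors _).1 hx
      refine (Subobject.inf_factors _).2 ⟨hxT, (preim_factors _ _ x).2 ?_⟩
      have hxd := (preim_factors _ _ x).1 ((Subobject.inf_factors _).1 hxT).2
      obtain ⟨W', π, hπ, a, b, ha, hb, e⟩ := (factors_sup_iff x).1 hx1
      have had : (K.filX (p + r + 1) (i + 1)).Factors (a ≫ K.obj.d i (i + 1)) := by
        convert (preim_factors _ _ a).1 ((Subobject.inf_factors _).1 ha).2 using 2; push_cast; ring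
      refine factors_of_epi_comp π _ ?_
      have e' : π ≫ x ≫ K.obj.d i (i + 1) = a ≫ K.obj.d i (i + 1) + b ≫ K.obj.d i (i + 1) := by
        rw [← Category.assoc, e, Preadditive.add_comp]
      rw [e']
      refine Subobject.factors_add _ _ (Subobject.factors_of_le _ le_sup_right had)
        (mem_BSub' K rfl ?_ (𝟙 W') (filX_le K (by omega) i hb) (Category.id_comp _))
      rw [show b ≫ K.obj.d i (i + 1) = π ≫ x ≫ K.obj.d i (i + 1) - a ≫ K.obj.d i (i + 1) by rw [e']; abel]
      exact factors_sub (Subobject.factors_of_factors_right _ hxd) (filX_le K (by omega) _ had)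
    · obtain ⟨hxT, hxB⟩ := (Subobject.inf_factors _).1 hx
      refine (Subobject.inf_factors _).2 ⟨?_, hxT⟩
      obtain ⟨W', π, hπ, w, z, hw, hwd, hz, e⟩ := exists_of_mem_BSub K (i := i) rfl ((preim_factors _ _ x).1 hxB)
      have hw' : (K.filX (p + 1) i).Factors w := by convert hw using 2; ring
      refine factors_of_epi_comp π x ?_
      rw [show π ≫ x = (π ≫ x - w) + w by abel]
      refine Subobject.factors_add _ _ (mem_ZSub K ?_ ?_) (Subobject.factors_of_le _ le_sup_right hw')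
      · exact factors_sub (Subobject.factors_of_factors_right _ ((Subobject.inf_factors _).1 hxT).1)
          (filX_le K (by omega) i hw')
      · rw [Preadditive.sub_comp, Category.assoc, e, add_sub_cancel_left]
        convert hz using 2; push_cast; ring
  obtain ⟨I₃⟩ := quot_iso (K.obj.d i (i + 1)) (inf_le_right : K.ZSub (r + 1) p i ⊓ T ≤ T)
    (BSub_le_succ K r (p + r) (i + 1)) hT hS
  exact ⟨I₂.symm ≪≫ I₁.symm ≪≫ I₃⟩

theorem factors_filH_iff {p n : ℤ} {W : A} (y : W ⟶ K.obj.homology n) :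
    (K.filH p n).Factors y ↔ (img (K.obj.homologyπ n) (preim (K.obj.iCycles n) (K.filX p n))).Factors y := by
  constructor
  · intro h
    obtain ⟨W₁, π₁, hπ₁, a, e⟩ := (factors_imageSubobject_iff _ _).1 h
    obtain ⟨W₂, π₂, hπ₂, b, hb, e₂⟩ :=
      HomologicalComplex.eq_liftCycles_homologyπ_up_to_refinements _ a (n + 1) (by simp)
    refine (factors_img_iff _ _ y).2 ⟨W₂, π₂ ≫ π₁, inferInstance,
      (K.fil p : CochainComplex A ℤ).liftCycles b (n + 1) (by simp) hb ≫ HomologicalComplex.cyclesMap (K.fil p).arrow n,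
      (preim_factors _ _ _).2 ?_, ?_⟩
    · rw [Category.assoc, HomologicalComplex.cyclesMap_i, HomologicalComplex.liftCycles_i_assoc]
      exact (Subobject.mk_factors_iff _ _).2 ⟨b, rfl⟩
    · rw [Category.assoc, e, reassoc_of% e₂, HomologicalComplex.homologyπ_naturality, Category.assoc]
  · intro h
    obtain ⟨W', π, hπ, x, hx, e⟩ := (factors_img_iff _ _ y).1 h
    obtain ⟨(a : W' ⟶ (K.fil p : CochainComplex A ℤ).X n), (ha : a ≫ (K.fil p).arrow.f n = x ≫ K.obj.iCycles n)⟩ :=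
      (Subobject.mk_factors_iff _ _).1 ((preim_factors _ _ x).1 hx)
    have := mono_arrow_f K p (n + 1)
    have h0 : a ≫ (K.fil p : CochainComplex A ℤ).d n (n + 1) = 0 := by
      rw [← cancel_mono ((K.fil p).arrow.f (n + 1)), Category.assoc, ← (K.fil p).arrow.comm, reassoc_of% ha,
        HomologicalComplex.iCycles_d, comp_zero, zero_comp]
    refine (factors_imageSubobject_iff (HomologicalComplex.homologyMap (K.fil p).arrow n) y).2 ⟨W', π, hπ,
      (K.fil p : CochainComplex A ℤ).liftCycles a (n + 1) (by simp) h0 ≫ HomologicalComplex.homologyπ _ n, ?_⟩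
    rw [e, Category.assoc, HomologicalComplex.homologyπ_naturality, ← Category.assoc]
    congr 1
    rw [← cancel_mono (K.obj.iCycles n), Category.assoc, HomologicalComplex.cyclesMap_i,
      HomologicalComplex.liftCycles_i_assoc, ha]

/-- `gr^p H^n` is `Z_∞ / B_∞`. -/
theorem nonempty_gr_iso (p n : ℤ) :
    Nonempty (quot (BBot_le_ZTop K p n) ≅ quot (K.filH_anti n (Int.le_add_one (le_refl p)))) := by
  let T := preim (K.obj.iCycles n) (K.filX p n)
  let S := T ⊓ preim (K.obj.iCycles n) (K.BBot p n)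
  have h1 : K.ZTop p n = img (K.obj.iCycles n) T ⊔ K.BBot p n := by
    refine le_antisymm (sup_le (le_of_forall_factors fun W x hx => ?_) (le_sup_right.trans le_sup_right))
      (sup_le ?_ (BBot_le_ZTop K p n))
    · obtain ⟨hx1, hx2⟩ := (Subobject.inf_factors _).1 hx
      refine Subobject.factors_of_le _ le_sup_left ?_
      have hz : K.obj.liftCycles x (n + 1) (by simp) ((kernelSubobject_factors_iff _ _).1 hx2) ≫ K.obj.iCycles n = x :=
        HomologicalComplex.liftCycles_i _ _ _ _ _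
      rw [← hz]
      exact img_factors _ ((preim_factors _ _ _).2 (by rw [hz]; exact hx1))
    · refine le_of_forall_factors fun W x hx => Subobject.factors_of_le _ le_sup_left ?_
      obtain ⟨W', π, hπ, w, hw, e⟩ := (factors_img_iff _ _ x).1 hx
      refine factors_of_epi_comp π x ?_
      rw [e]
      exact (Subobject.inf_factors _).2 ⟨(preim_factors _ _ w).1 hw,
        (kernelSubobject_factors_iff _ _).2 (by simp)⟩
  have h2 : K.filH p n = img (K.obj.homologyπ n) T ⊔ K.filH (p + 1) n := by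
    have e : K.filH p n = img (K.obj.homologyπ n) T :=
      le_antisymm (le_of_forall_factors fun W y hy => (factors_filH_iff K y).1 hy)
        (le_of_forall_factors fun W y hy => (factors_filH_iff K y).2 hy)
    rw [← e]
    exact (sup_eq_left.2 (K.filH_anti n (Int.le_add_one le_rfl))).symm
  have h3 : S = T ⊓ preim (K.obj.homologyπ n) (K.filH (p + 1) n) := by
    refine le_antisymm (le_of_forall_factors fun W x hx => ?_) (le_of_forall_factors fun W x hx => ?_)
    · obtain ⟨hxT, hxB⟩ := (Subobject.inf_factors _).1 hx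
      refine (Subobject.inf_factors _).2 ⟨hxT, (preim_factors _ _ x).2 ?_⟩
      obtain ⟨W₁, π₁, hπ₁, a, b, ha, hb, e⟩ := (factors_sup_iff _).1 ((preim_factors _ _ x).1 hxB)
      obtain ⟨W₂, π₂, hπ₂, u, e₂⟩ := (factors_imageSubobject_iff _ _).1 ((Subobject.inf_factors _).1 ha).2
      let t := π₂ ≫ π₁ ≫ x - u ≫ K.obj.toCycles (n - 1) n
      have ht : t ≫ K.obj.iCycles n = π₂ ≫ b := by
        simp only [t, Preadditive.sub_comp, Category.assoc, HomologicalComplex.toCycles_i, e,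
          Preadditive.comp_add, e₂]
        abel
      refine (factors_filH_iff K _).2 ((factors_img_iff _ _ _).2 ⟨W₂, π₂ ≫ π₁, inferInstance, t,
        (preim_factors _ _ t).2 (by rw [ht]; exact Subobject.factors_of_factors_right _ hb), ?_⟩)
      simp [t]
    · obtain ⟨hxT, hxH⟩ := (Subobject.inf_factors _).1 hx
      refine (Subobject.inf_factors _).2 ⟨hxT, (preim_factors _ _ x).2 ?_⟩
      obtain ⟨W₁, π₁, hπ₁, t, ht, e⟩ := (factors_img_iff _ _ _).1 ((factors_filH_iff K _).1 ((preim_factors _ _ x).1 hxH))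
      rw [← Category.assoc] at e
      obtain ⟨W₂, π₂, hπ₂, u, e₂⟩ :=
        (K.obj.comp_homologyπ_eq_iff_up_to_refinements (n - 1) n (by simp) _ _).1 e
      have e₃ : (π₂ ≫ π₁) ≫ x ≫ K.obj.iCycles n = u ≫ K.obj.d (n - 1) n + π₂ ≫ t ≫ K.obj.iCycles n := by
        have := congrArg (· ≫ K.obj.iCycles n) e₂
        simp only [Preadditive.add_comp, Category.assoc, HomologicalComplex.toCycles_i] at this ⊢
        rw [this, add_comm]
      have hb := Subobject.factors_of_factors_right π₂ ((preim_factors _ _ t).1 ht)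
      refine factors_of_epi_comp (π₂ ≫ π₁) _ ?_
      rw [e₃]
      refine Subobject.factors_add _ _ (Subobject.factors_of_le _ le_sup_left ((Subobject.inf_factors _).2
        ⟨?_, (factors_imageSubobject_iff _ _).2 ⟨W₂, 𝟙 _, inferInstance, u, by simp⟩⟩))
        (Subobject.factors_of_le _ le_sup_right hb)
      rw [show u ≫ K.obj.d (n - 1) n = (π₂ ≫ π₁) ≫ x ≫ K.obj.iCycles n - π₂ ≫ t ≫ K.obj.iCycles n by
        rw [e₃]; abel]
      exact factors_sub (Subobject.factors_of_factors_right _ ((preim_factors _ _ x).1 hxT))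
        (filX_le K (by omega) n hb)
  obtain ⟨I₁⟩ := quot_iso (K.obj.iCycles n) (inf_le_left : S ≤ T) (BBot_le_ZTop K p n) h1 rfl
  obtain ⟨I₂⟩ := quot_iso (K.obj.homologyπ n) (inf_le_left : S ≤ T)
    (K.filH_anti n (Int.le_add_one (le_refl p))) h2 h3
  exact ⟨I₁.symm ≪≫ I₂⟩

section Serre

variable (P : ObjectProperty A) [P.IsClosedUnderIsomorphisms] (h0 : ∃ Z : A, IsZero Z ∧ P Z)
  (hP : ∀ S : ComposableArrows A 4, S.Exact → P (S.obj 0) → P (S.obj 1) → P (S.obj 3) → P (S.obj 4) → P (S.obj 2))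

include hP in
theorem prop_of_five {X₀ X₁ X₂ X₃ X₄ : A} (f : X₀ ⟶ X₁) (g : X₁ ⟶ X₂) (h : X₂ ⟶ X₃) (k : X₃ ⟶ X₄)
    {w₁ : f ≫ g = 0} {w₂ : g ≫ h = 0} {w₃ : h ≫ k = 0} (e₁ : (ShortComplex.mk f g w₁).Exact)
    (e₂ : (ShortComplex.mk g h w₂).Exact) (e₃ : (ShortComplex.mk h k w₃).Exact)
    (q₀ : P X₀) (q₁ : P X₁) (q₃ : P X₃) (q₄ : P X₄) : P X₂ :=
  hP (ComposableArrows.mk₄ f g h k)
    (ComposableArrows.exact_of_δ₀ e₁.exact_toComposableArrows
      (ComposableArrows.exact_of_δ₀ e₂.exact_toComposableArrows e₃.exact_toComposableArrows)) q₀ q₁ q₃ q₄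

include h0 in
theorem prop_of_isZero {X : A} (h : IsZero X) : P X := by
  obtain ⟨Z, hZ, hZ'⟩ := h0
  exact P.prop_of_iso (hZ.iso h) hZ'

include h0 hP

theorem prop_X₁ {S : ShortComplex A} (hS : S.ShortExact) (q₂ : P S.X₂) (q₃ : P S.X₃) : P S.X₁ := by
  have hz := prop_of_isZero P h0 (isZero_zero A)
  haveI := hS.mono_f
  exact prop_of_five P hP (0 : (0 : A) ⟶ 0) (0 : (0 : A) ⟶ S.X₁) S.f S.g (w₁ := zero_comp) (w₂ := zero_comp)
    (w₃ := S.zero) (ShortComplex.exact_of_isZero_X₂ _ (isZero_zero A))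
    ((ShortComplex.exact_iff_mono _ rfl).2 (inferInstanceAs (Mono S.f))) hS.exact hz hz q₂ q₃

theorem prop_X₃ {S : ShortComplex A} (hS : S.ShortExact) (q₁ : P S.X₁) (q₂ : P S.X₂) : P S.X₃ := by
  have hz := prop_of_isZero P h0 (isZero_zero A)
  haveI := hS.epi_g
  exact prop_of_five P hP S.f S.g (0 : S.X₃ ⟶ 0) (0 : (0 : A) ⟶ 0) (w₁ := S.zero) (w₂ := comp_zero)
    (w₃ := comp_zero) hS.exact ((ShortComplex.exact_iff_epi _ rfl).2 (inferInstanceAs (Epi S.g)))
    (ShortComplex.exact_of_isZero_X₂ _ (isZero_zero A)) q₁ q₂ hz hz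

theorem prop_X₂ {S : ShortComplex A} (hS : S.ShortExact) (q₁ : P S.X₁) (q₃ : P S.X₃) : P S.X₂ := by
  have hz := prop_of_isZero P h0 (isZero_zero A)
  haveI := hS.mono_f
  haveI := hS.epi_g
  exact prop_of_five P hP (0 : (0 : A) ⟶ S.X₁) S.f S.g (0 : S.X₃ ⟶ 0) (w₁ := zero_comp) (w₂ := S.zero)
    (w₃ := comp_zero) ((ShortComplex.exact_iff_mono _ rfl).2 (inferInstanceAs (Mono S.f))) hS.exact
    ((ShortComplex.exact_iff_epi _ rfl).2 (inferInstanceAs (Epi S.g))) hz q₁ q₃ hz

theorem prop_image {E I F : A} (g : E ⟶ I) [Epi g] (i : I ⟶ F) [Mono i] (hE : P E) (hF : P F) : P I := by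
  have hz := prop_of_isZero P h0 (isZero_zero A)
  have hC : P (cokernel i) := prop_of_five P hP (g ≫ i) (cokernel.π i) (0 : cokernel i ⟶ 0) (0 : (0 : A) ⟶ 0)
    (w₁ := by rw [Category.assoc, cokernel.condition, comp_zero]) (w₂ := comp_zero) (w₃ := comp_zero)
    (ShortComplex.exact_of_g_is_cokernel _ (isCokernelEpiComp (cokernelIsCokernel i) g rfl))
    ((ShortComplex.exact_iff_epi _ rfl).2 (inferInstanceAs (Epi (cokernel.π i))))
    (ShortComplex.exact_of_isZero_X₂ _ (isZero_zero A)) hE hF hz hz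
  exact prop_X₁ P h0 hP (S := ShortComplex.mk i (cokernel.π i) (cokernel.condition i))
    { exact := ShortComplex.exact_of_g_is_cokernel _ (cokernelIsCokernel i) } hF hC

theorem prop_E_succ (r : ℕ) (hr : ∀ p n : ℤ, P (K.E r p n)) (p n : ℤ) : P (K.E (r + 1) p n) := by
  have hI : ∀ a q i j : ℤ, a + r = q → i + 1 = j → P (quot (BSub_le_succ K r q j)) := by
    intro a q i j hq hij
    have hle : K.BSub r a i ≤ K.ZSub (r + 1) a i :=
      (BSub_le_BBot K r a i).trans ((BBot_le_ZTop K a i).trans (ZTop_le_ZSub K _ a i))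
    obtain ⟨f, g, w, hS⟩ := exists_chain hle (ZSub_succ_le K r a i)
    obtain ⟨f', g', w', hS'⟩ := exists_chain (BSub_le_succ K r q j)
      ((BSub_le_BBot K (r + 1) q j).trans ((BBot_le_ZTop K q j).trans (ZTop_le_ZSub K r q j)))
    obtain ⟨e⟩ := nonempty_diff_iso K r a q i j hq hij
    haveI : Epi g := hS.epi_g
    haveI : Mono f' := hS'.mono_f
    exact prop_image P h0 hP (g ≫ e.hom) f' (hr a i) (hr q j)
  have hle : K.BSub r p n ≤ K.ZSub (r + 1) p n :=
    (BSub_le_BBot K r p n).trans ((BBot_le_ZTop K p n).trans (ZTop_le_ZSub K _ p n))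
  obtain ⟨f, g, w, hS⟩ := exists_chain hle (ZSub_succ_le K r p n)
  obtain ⟨e⟩ := nonempty_diff_iso K r p (p + r) n (n + 1) rfl rfl
  have hker : P (quot hle) := prop_X₁ P h0 hP hS (hr p n) (P.prop_of_iso e.symm (hI p (p + r) n (n + 1) rfl rfl))
  obtain ⟨f', g', w', hS'⟩ := exists_chain (BSub_le_succ K r p n) (K.BSub_le_ZSub (r + 1) p n)
  exact prop_X₃ P h0 hP hS' (hI (p - r) p (n - 1) n (by omega) (by omega)) hker

theorem prop_homology (hK : ∀ n : ℤ, (K.XFil n).IsFinite) (r : ℕ) (hr : ∀ p n : ℤ, P (K.E r p n)) (n : ℤ) :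
    P (K.obj.homology n) := by
  have hall : ∀ s, r ≤ s → ∀ p n : ℤ, P (K.E s p n) := fun s hs => by
    induction s, hs using Nat.le_induction with
    | base => exact hr
    | succ s _ ih => exact prop_E_succ K P h0 hP s ih
  have h₀ := hyp_zero K hK
  have h₁ := hyp_iso K hK
  have hgr : ∀ p, P (quot (K.filH_anti n (Int.le_add_one (le_refl p)))) := fun p => by
    obtain ⟨rz, hz⟩ := ZSub_eventually K h₀ p n
    obtain ⟨rb, hb⟩ := BSub_eventually K h₁ p n
    let s := max r (max rz rb)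
    obtain ⟨e⟩ := nonempty_gr_iso K p n
    obtain ⟨e'⟩ := quot_congr (K.BSub_le_ZSub s p n) (BBot_le_ZTop K p n) (hb s (by omega)) (hz s (by omega))
    exact P.prop_of_iso (e' ≪≫ e) (hall s (by omega) p n)
  obtain ⟨⟨a, (ha : K.filH a n = ⊤)⟩, ⟨b, (hb : K.filH b n = ⊥)⟩⟩ := isFinite_HFil K h₀ h₁ n
  have key : ∀ k : ℕ, P (quot (bot_le : ⊥ ≤ K.filH (b - k) n)) := by
    intro k
    induction k with
    | zero => exact prop_of_isZero P h0 ((isZero_quot_iff _).2 (by simpa using hb.symm))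
    | succ k ih =>
      obtain ⟨f, g, w, hS⟩ := exists_chain (bot_le : ⊥ ≤ K.filH (b - k) n)
        (K.filH_anti n (show b - (k + 1 : ℕ) ≤ b - k by omega))
      obtain ⟨e⟩ := quot_congr (K.filH_anti n (Int.le_add_one (le_refl (b - (k + 1 : ℕ)))))
        (K.filH_anti n (show b - (k + 1 : ℕ) ≤ b - k by omega)) (congrArg (K.filH · n) (by push_cast; ring)) rfl
      exact prop_X₂ P h0 hP hS ih (P.prop_of_iso e (hgr _))
  have htop : K.filH (b - (b - a).toNat) n = ⊤ :=
    top_le_iff.1 (ha.ge.trans (K.filH_anti n (by omega)))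
  obtain ⟨e⟩ := quot_congr (bot_le : ⊥ ≤ K.filH (b - (b - a).toNat) n) (bot_le : ⊥ ≤ (⊤ : Subobject (K.obj.homology n)))
    rfl htop
  have hz : Subobject.ofLE ⊥ (⊤ : Subobject (K.obj.homology n)) bot_le = 0 := by
    rw [← cancel_mono (⊤ : Subobject (K.obj.homology n)).arrow]; simp
  exact P.prop_of_iso (e ≪≫ cokernelIsoOfEq hz ≪≫ cokernelZeroIsoTarget ≪≫
    asIso (⊤ : Subobject (K.obj.homology n)).arrow) (key _)

end Serre

end Groth.Agent.FilSpec8
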